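import Groth.Agent.Lib.Cohom.RpushModules
import Groth.Agent.Lib.LocQCoh25.Basic
import Groth.Agent.Lib.OX.Support

/-! # Vanishing of local cohomology above the number of equations -/

set_option autoImplicit false
set_option backward.isDefEq.respectTransparency false
set_option linter.style.haveILetI false
set_option maxHeartbeats 1000000
universe u

open CategoryTheory CategoryTheory.Limits AlgebraicGeometry TopologicalSpace Opposite

noncomputable section

namespace GrothLib.LocVanish20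

open GrothLib.Cocyc

variable {X : Scheme.{u}} {K : CochainComplex X.Modules ℕ}

theorem eq_zero_of_le_bot {N : X.Modules} {T : X.Opens} (hT : T ≤ ⊥) (z : Γ(N, T)) : z = 0 :=
  TopCat.Sheaf.eq_of_locally_eq' ⟨N.presheaf, N.isSheaf⟩
    (fun i : PEmpty.{u + 1} ↦ i.elim) T (fun i ↦ i.elim) (hT.trans bot_le) _ _ fun i ↦ i.elim

theorem bdy_sup (hfl : ∀ n {V W : X.Opens} (h : W ≤ V), Function.Surjective (rs (N := K.X n) h))
    {V W : X.Opens} {q : ℕ}
    (hV : ∀ z : Γ(K.X (q + 1), V), Coc K (q + 1) z → Bdy K (q + 1) z)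
    (hW : ∀ z : Γ(K.X (q + 1), W), Coc K (q + 1) z → Bdy K (q + 1) z)
    (hI : ∀ z : Γ(K.X q, V ⊓ W), Coc K q z → Bdy K q z)
    (z : Γ(K.X (q + 1), V ⊔ W)) (hz : Coc K (q + 1) z) : Bdy K (q + 1) z := by
  obtain ⟨(a : Γ(K.X q, V)), (ha : (K.d q (q + 1)).app V a = _)⟩ := hV (rs le_sup_left z) (hz.rs _)
  obtain ⟨(b : Γ(K.X q, W)), (hb : (K.d q (q + 1)).app W b = _)⟩ := hW (rs le_sup_right z) (hz.rs _)
  have hc : Coc K q (rs inf_le_left a - rs inf_le_right b : Γ(K.X q, V ⊓ W)) := by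
    rw [Coc, map_sub, app_rs, app_rs, ha, hb, rs_rs, rs_rs, sub_self]
  obtain ⟨e, he⟩ := hI _ hc
  obtain ⟨ê, hê⟩ := hfl (q - 1) (inf_le_left : V ⊓ W ≤ V) e
  obtain ⟨ω, hω₁, hω₂⟩ := exists_glue (K.X q) le_rfl le_sup_left le_sup_right
    (a - (K.d (q - 1) q).app V ê) b (by rw [map_sub, ← app_rs, hê, he, sub_sub_cancel])
  refine ⟨ω, eq_of_sup _ le_rfl le_sup_left le_sup_right ?_ ?_⟩
  · show rs le_sup_left ((K.d q (q + 1)).app (V ⊔ W) ω) = _
    rw [← app_rs, hω₁, map_sub, ha, d_d, sub_zero]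
  · show rs le_sup_right ((K.d q (q + 1)).app (V ⊔ W) ω) = _
    rw [← app_rs, hω₂, hb]

/-- On a union of at most `p` affine opens closed under intersection, cohomology vanishes in degree `p`. -/
theorem bdy_finset_sup {M : X.Modules} {ι₀ : M ⟶ K.X 0} (hK : Resolves K M ι₀) (C : X.Opens → Prop)
    (hC : ∀ A B, C A → C B → C (A ⊓ B)) (hA : ∀ A, C A → IsAffineOpen A) {ι : Type*} (s : Finset ι) :
    ∀ (f : ι → X.Opens), (∀ i ∈ s, C (f i)) → ∀ p, s.card ≤ p → ∀ z : Γ(K.X p, s.sup f), Coc K p z → Bdy K p z := by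
  classical
  induction s using Finset.induction_on with
  | empty => exact fun f _ p _ z _ => ⟨0, (map_zero _).trans (eq_zero_of_le_bot le_rfl z).symm⟩
  | insert i s hi ih =>
    intro f hf p hp
    rw [Finset.card_insert_of_notMem hi] at hp
    obtain _ | q := p
    · omega
    rw [Finset.sup_insert]
    refine bdy_sup hK.flasque (fun z hz => hK.exact (hA _ (hf i (Finset.mem_insert_self i s))) q z hz)
      (ih f (fun j hj => hf j (Finset.mem_insert_of_mem hj)) (q + 1) (by omega)) ?_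
    rw [Finset.sup_inf_distrib_left]
    exact ih _ (fun j hj => hC _ _ (hf i (Finset.mem_insert_self i s)) (hf j (Finset.mem_insert_of_mem hj))) q (by omega)

theorem isZero_homology_of_local (P : CochainComplex X.Modules ℕ) (p : ℕ)
    (h : ∀ (x : X) (T : X.Opens), x ∈ T → ∃ W : X.Opens, x ∈ W ∧ W ≤ T ∧ ∀ z : Γ(P.X p, W), Coc P p z → Bdy P p z) :
    IsZero (P.homology p) := by
  refine OX.isZero_of_subsingleton_stalks _ fun x => subsingleton_of_forall_eq 0 fun g => ?_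
  obtain ⟨A, hxA, s, rfl⟩ := TopCat.Presheaf.exists_germ_eq (P.homology p).presheaf g
  obtain ⟨W₀, hW₀, hx₀, z, hz, he⟩ := exists_hcls_local P p s x hxA
  obtain ⟨W, hxW, hW, hb⟩ := h x W₀ hx₀
  have h0 : rs (hW.trans hW₀) s = 0 := by
    rw [← rs_rs hW₀ hW, ← he, ← hcls_rs P p hW z hz]
    exact hcls_eq_zero_of_bdy P p _ (hz.rs hW) (hb _ (hz.rs hW))
  rw [← TopCat.Presheaf.germ_res_apply (P.homology p).presheaf (homOfLE (hW.trans hW₀)) x hxW]
  refine Eq.trans ?_ (map_zero ((P.homology p).presheaf.germ W x hxW).hom)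
  exact congrArg ((P.homology p).presheaf.germ W x hxW).hom h0

theorem isZero_homology_pushCx (U : X.Opens) (c : ℕ)
    (hT : ∀ x : X, ∃ (V : X.Opens) (fs : Finset Γ(X, V)), x ∈ V ∧ fs.card ≤ c ∧
      X.zeroLocus (U := V) (↑fs : Set Γ(X, V)) ∩ (V : Set ↥X) = (U : Set ↥X)ᶜ ∩ (V : Set ↥X))
    {M : X.Modules} [M.IsQuasicoherent] (I : Cohom.FlRes M) (p : ℕ) (hp : c ≤ p) :
    IsZero ((Cohom.pushCx U.ι (I.restrict U.ι).cocomplex).homology p) := by
  classical
  refine isZero_homology_of_local _ p fun x T hx => ?_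
  obtain ⟨V, fs, hxV, hcard, hfs⟩ := hT x
  obtain ⟨W, hW, hxW, hWle⟩ := X.isBasis_affineOpens.exists_subset_of_mem_open
    (show x ∈ (T ⊓ V : X.Opens) from ⟨hx, hxV⟩) (T ⊓ V : X.Opens).2
  obtain ⟨W, hWa, rfl⟩ := hW
  have hWV : W ≤ V := fun y hy => (hWle hy).2
  refine ⟨W, hxW, fun y hy => (hWle hy).1, fun z hz => ?_⟩
  haveI : (M.restrict U.ι).IsQuasicoherent := inferInstance
  have hK := Cohom.resolves (I.restrict U.ι)
  let C : (U : Scheme.{u}).Opens → Prop := fun A =>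
    ∃ h : Γ(X, W), X.basicOpen h ≤ U ∧ A = U.ι ⁻¹ᵁ X.basicOpen h
  have hCinf : ∀ A B, C A → C B → C (A ⊓ B) := by
    rintro A B ⟨a, ha, rfl⟩ ⟨b, -, rfl⟩
    exact ⟨a * b, by rw [X.basicOpen_mul]; exact inf_le_left.trans ha,
      by rw [X.basicOpen_mul, Scheme.Hom.preimage_inf]⟩
  have hCaff : ∀ A, C A → IsAffineOpen A := by
    rintro A ⟨a, ha, rfl⟩
    exact (hWa.basicOpen a).preimage_of_isOpenImmersion U.ι (by rwa [Scheme.Opens.opensRange_ι])
  let φ : Γ(X, V) → Γ(X, W) := fun f => X.presheaf.map (homOfLE hWV).op f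
  have hU : ∀ y ∈ W, y ∈ U ↔ ∃ f ∈ fs, y ∈ X.basicOpen f := fun y hy => by
    have h := congrArg (y ∈ ·) hfs
    simp only [Set.mem_inter_iff, Scheme.mem_zeroLocus_iff, Set.mem_compl_iff, SetLike.mem_coe, eq_iff_iff,
      hWV hy, and_true] at h
    rw [← not_iff_not, ← h]
    push Not
    rfl
  have hle : ∀ f ∈ fs, X.basicOpen (φ f) ≤ U := fun f hf y hy => by
    rw [X.basicOpen_res] at hy
    exact (hU y hy.1).2 ⟨f, hf, hy.2⟩
  let g : Γ(X, V) → (U : Scheme.{u}).Opens := fun f => U.ι ⁻¹ᵁ X.basicOpen (φ f)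
  have hsup : fs.sup g = U.ι ⁻¹ᵁ W := by
    refine le_antisymm (Finset.sup_le fun f hf => U.ι.preimage_mono (X.basicOpen_le _)) fun y hy => ?_
    obtain ⟨f, hf, hyf⟩ := (hU _ hy).1 y.2
    refine (Finset.le_sup hf : g f ≤ fs.sup g) ?_
    show U.ι y ∈ X.basicOpen (φ f)
    rw [X.basicOpen_res]
    exact ⟨hy, hyf⟩
  have key := bdy_finset_sup hK C hCinf hCaff fs g (fun f hf => ⟨φ f, hle f hf, rfl⟩) p (hcard.trans hp)
  rw [hsup] at key
  exact (Cohom.pushCx_bdy_iff U.ι _ p z).2 (key z ((Cohom.pushCx_coc_iff U.ι _ p z).1 hz))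

theorem isZero_rightDerived_gammaZ (U : X.Opens) [HasInjectiveResolutions X.Modules] (c : ℕ)
    (hT : ∀ x : X, ∃ (V : X.Opens) (fs : Finset Γ(X, V)), x ∈ V ∧ fs.card ≤ c ∧
      X.zeroLocus (U := V) (↑fs : Set Γ(X, V)) ∩ (V : Set ↥X) = (U : Set ↥X)ᶜ ∩ (V : Set ↥X))
    (F : X.Modules) [F.IsQuasicoherent] (i : ℕ) (hi : c < i) :
    IsZero (((DCoh.gammaZ U.ι).rightDerived i).obj F) := by
  obtain _ | m := i
  · omega
  let IR := injectiveResolution F
  refine IsZero.of_iso ?_ (IR.isoRightDerivedObj (DCoh.gammaZ U.ι) (m + 1))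
  let S := LocQCoh25.suppSES U.ι IR.cocomplex
  have hS : S.ShortExact := LocQCoh25.suppSES_shortExact U.ι IR.cocomplex IR.injective
  have h₁ : IsZero (S.X₃.homology m) :=
    isZero_homology_pushCx U c hT (Cohom.FlRes.ofInjective IR) m (by omega)
  have h₂ : IsZero (S.X₂.homology (m + 1)) := (IR.cocomplex_exactAt_succ m).isZero_homology
  exact (hS.homology_exact₁ m (m + 1) rfl).isZero_X₂ (h₁.eq_of_src _ _) (h₂.eq_of_tgt _ _)

end GrothLib.LocVanish20
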